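import Groth.Agent.Lib.GModComod21.Basic
import Groth.Agent.Lib.RedLR15.Main
import Groth.Agent.Lib.HopfPts19.Scheme
import Groth.Agent.Lib.UInvFG21.Torus
import Groth.Agent.Lib.GrassAct21.Sub

/-!
# Complete reducibility of modules of reductive groups in characteristic zero
-/

set_option autoImplicit false
set_option linter.style.haveILetI false
set_option backward.isDefEq.respectTransparency.types false
universe u

open CategoryTheory MonObj AlgebraicGeometry
open scoped TensorProduct

noncomputable section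

namespace Groth.Agent.GModComod21

open InvRing21 (ptAct)

variable {k : Type u} [Field k] [IsAlgClosed k] [CharZero k] {G : Over (Spec (CommRingCat.of k))} [GrpObj G]
  {V : Type u} [AddCommGroup V] [Module k V]

/-- A reductive group is the spectrum of a linearly reductive Hopf algebra. -/
theorem exists_model_LR (hG : Red.IsReductiveOver k G) :
    ∃ (A : Type u) (_ : CommRing A) (_ : HopfAlgebra k A) (f : GA k A ⟶ G),
      IsIso f ∧ IsMonHom f ∧ HopfRep.IsLinearlyReductive k A := by
  obtain ⟨hGa, hGs, hGc, hGU⟩ := hG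
  haveI := hGa
  haveI := hGs
  obtain ⟨A, _, _, ⟨e⟩⟩ := HopfPts19.exists_model G
  let f : CoactBr.sp k A ⟶ G := e.hom.hom.hom
  let g : G ⟶ CoactBr.sp k A := e.inv.hom.hom
  have hfg : g ≫ f = 𝟙 G := congrArg (fun k => k.hom.hom) e.inv_hom_id
  have hgf : f ≫ g = 𝟙 _ := congrArg (fun k => k.hom.hom) e.hom_inv_id
  haveI : IsIso f := ⟨g, hgf, hfg⟩
  haveI : IsMonHom f := e.hom.hom.isMonHom_hom
  haveI : IsIso f.left := inferInstanceAs (IsIso ((Over.forget _).map f))
  have hsm : Smooth (CoactBr.sp k A).hom := by rw [← Over.w f]; infer_instance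
  have hlft : LocallyOfFiniteType (CoactBr.sp k A).hom := inferInstance
  haveI : Algebra.FiniteType k A :=
    RingHom.finiteType_algebraMap.1 ((HasRingHomProperty.Spec_iff (P := @LocallyOfFiniteType)).1 hlft)
  refine ⟨A, inferInstance, inferInstance, f, inferInstance, inferInstance,
    RedLR15.isLinearlyReductive_of_isReductiveOver ⟨inferInstanceAs (IsAffine (Spec (CommRingCat.of A))), hsm,
      (Scheme.homeoOfIso (asIso f.left)).connectedSpace_iff.2 hGc, fun U _ i _ hic hUs hUc hn hU => ?_⟩⟩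
  haveI := hic
  refine hGU U (i ≫ f) (by rw [Over.comp_left]; infer_instance) hUs hUc (fun T x n => ?_) hU
  obtain ⟨n', hn'⟩ := hn T (x ≫ inv f) n
  refine ⟨n', ?_⟩
  have h := congrArg (fun t => t ≫ f) hn'
  simp only [MonObj.mul_comp, GrpObj.inv_comp, Category.assoc, IsIso.inv_hom_id, Category.comp_id] at h
  exact h

/-- Stable subspaces have stable complements. -/
theorem exists_stable_compl (hG : Red.IsReductiveOver k G) [FiniteDimensional k V] (σ : VecGrp.GMod G V)
    (W : Submodule k V) (hW : ∀ g : VecGrp.pt k k ⟶ G, ∀ w ∈ W, ptAct σ g w ∈ W) :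
    ∃ W' : Submodule k V, IsCompl W W' ∧ ∀ g : VecGrp.pt k k ⟶ G, ∀ w ∈ W', ptAct σ g w ∈ W' := by
  haveI := hG.1
  haveI := hG.2.1
  obtain ⟨A, _, _, f, hf, hfm, hLR⟩ := exists_model_LR hG
  haveI := hf
  haveI := hfm
  let τ : VecGrp.GMod (GA k A) V := UInvFG21.resMod σ f
  letI : HopfRep.Comod k A V := comodOf τ
  have hcomm : ∀ (U : Submodule k V) (z : A ⊗[k] U), TensorProduct.comm k A V (U.subtype.baseChange A z) =
      U.subtype.rTensor A (TensorProduct.comm k A U z) := fun U z => by
    induction z using TensorProduct.induction_on with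
    | zero => simp
    | tmul a e => rfl
    | add p q hp hq => simp only [map_add, hp, hq]
  have hsub : HopfRep.IsSubcomod (k := k) (A := A) W := fun w hw => by
    obtain ⟨σ', hσ'⟩ := GrassAct21.exists_subMod σ W hW
    refine ⟨TensorProduct.comm k A W (σ'.ρ A (toPt (AlgHom.id k A) ≫ f) ((1 : A) ⊗ₜ[k] ⟨w, hw⟩)), ?_⟩
    rw [← hcomm, hσ']
    rfl
  obtain ⟨W', hW', hc⟩ := hLR V inferInstance W hsub
  refine ⟨W', hc, fun g w hw => ?_⟩
  obtain ⟨z, hz⟩ := hW' w hw
  have h := val_coactOf τ (ofPt (g ≫ inv f)) w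
  rw [toPt_ofPt] at h
  have h2 : τ.ρ k (g ≫ inv f) ((1 : k) ⊗ₜ[k] w) = σ.ρ k g ((1 : k) ⊗ₜ[k] w) := by
    show σ.ρ k ((g ≫ inv f) ≫ f) _ = _
    rw [Category.assoc, IsIso.inv_hom_id, Category.comp_id]
  show TensorProduct.lid k V (σ.ρ k g ((1 : k) ⊗ₜ[k] w)) ∈ W'
  rw [← h2, ← h]
  show TensorProduct.lid k V (TensorProduct.comm k V k
    ((ofPt (g ≫ inv f)).toLinearMap.lTensor V (coactOf τ w))) ∈ W'
  rw [show coactOf τ w = W'.subtype.rTensor A z from hz.symm]
  clear hz
  induction z using TensorProduct.induction_on with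
  | zero => simp
  | tmul e a =>
    simp only [LinearMap.rTensor_tmul, LinearMap.lTensor_tmul, TensorProduct.comm_tmul, TensorProduct.lid_tmul]
    exact W'.smul_mem _ e.2
  | add p q hp hq => simp only [map_add]; exact W'.add_mem hp hq

end Groth.Agent.GModComod21
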