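import Groth.Prelude.Def_VecGrp
import Groth.Prelude.Def_HopfRep
import Groth.Prelude.Def_CoactBr
import Mathlib.AlgebraicGeometry.Group.Affine

/-!
# Actions of an affine group scheme and comodules
-/

set_option autoImplicit false
set_option linter.style.haveILetI false
set_option backward.isDefEq.respectTransparency.types false
universe u

open CategoryTheory MonObj AlgebraicGeometry
open scoped TensorProduct
open TensorProduct WithConv

noncomputable section

namespace Groth.Agent.GModComod21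

variable {R : Type u} [CommRing R] {A : Type u} [CommRing A] [HopfAlgebra R A]
  {E : Type u} [AddCommGroup E] [Module R E]

variable (R A) in
/-- The group scheme of the Hopf algebra. -/
abbrev GA : Over (Spec (CommRingCat.of R)) := (Spec (CommRingCat.of A)).asOver (Spec (CommRingCat.of R))

/-- The point given by an algebra map. -/
def toPt {B : Type u} [CommRing B] [Algebra R B] (φ : A →ₐ[R] B) : VecGrp.pt R B ⟶ GA R A :=
  Spec.mapMulEquiv (toConv φ)

/-- The algebra map given by a point. -/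
def ofPt {B : Type u} [CommRing B] [Algebra R B] (g : VecGrp.pt R B ⟶ GA R A) : A →ₐ[R] B :=
  (Spec.mapMulEquiv.symm g).ofConv

variable {B B' : Type u} [CommRing B] [Algebra R B] [CommRing B'] [Algebra R B']

theorem ofPt_toPt (φ : A →ₐ[R] B) : ofPt (toPt φ) = φ :=
  congrArg WithConv.ofConv (MulEquiv.symm_apply_apply Spec.mapMulEquiv (toConv φ))

theorem toPt_ofPt (g : VecGrp.pt R B ⟶ GA R A) : toPt (ofPt g) = g :=
  MulEquiv.apply_symm_apply Spec.mapMulEquiv g

theorem toPt_left (φ : A →ₐ[R] B) : (toPt φ).left = Spec.map (CommRingCat.ofHom φ.toRingHom) := rfl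

theorem ptMap_toPt (φ : B →ₐ[R] B') (ψ : A →ₐ[R] B) : VecGrp.ptMap φ ≫ toPt ψ = toPt (φ.comp ψ) :=
  Over.OverMorphism.ext (by
    rw [Over.comp_left, VecGrp.ptMap_left, toPt_left, toPt_left]
    exact (Spec.map_comp (CommRingCat.ofHom ψ.toRingHom) (CommRingCat.ofHom φ.toRingHom)).symm)

theorem ptMap_toPt_id (φ : A →ₐ[R] B) : VecGrp.ptMap φ ≫ toPt (AlgHom.id R A) = toPt φ :=
  (ptMap_toPt φ _).trans (by rw [AlgHom.comp_id])

theorem ofPt_ptMap (φ : B →ₐ[R] B') (g : VecGrp.pt R B ⟶ GA R A) : ofPt (VecGrp.ptMap φ ≫ g) = φ.comp (ofPt g) := by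
  conv_lhs => rw [← toPt_ofPt g, ptMap_toPt, ofPt_toPt]

/-- The composite of the comultiplication and two maps. -/
abbrev cv (φ ψ : A →ₐ[R] B) : A →ₐ[R] B :=
  (Algebra.TensorProduct.lift φ ψ fun _ _ => .all _ _).comp (Bialgebra.comulAlgHom R A)

theorem toPt_cv (φ ψ : A →ₐ[R] B) : toPt (cv φ ψ) = toPt φ * toPt ψ := by
  have e : cv φ ψ = (toConv φ * toConv ψ).ofConv := AlgHom.ext fun c => by
    rw [AlgHom.convMul_apply]
    rfl
  rw [e]
  exact map_mul Spec.mapMulEquiv (toConv φ) (toConv ψ)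

theorem toPt_counit : toPt ((Algebra.ofId R B).comp (Bialgebra.counitAlgHom R A)) = (1 : VecGrp.pt R B ⟶ GA R A) := by
  have e : ((Algebra.ofId R B).comp (Bialgebra.counitAlgHom R A)) = (1 : WithConv (A →ₐ[R] B)).ofConv :=
    AlgHom.ext fun c => by rw [AlgHom.convOne_def]
  rw [e]
  exact map_one Spec.mapMulEquiv

/-- The value at a map of a candidate coaction. -/
def val (δ : E →ₗ[R] E ⊗[R] A) (φ : A →ₐ[R] B) : E →ₗ[R] B ⊗[R] E :=
  (TensorProduct.comm R E B).toLinearMap ∘ₗ φ.toLinearMap.lTensor E ∘ₗ δ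

/-- The operator at a map of a candidate coaction. -/
def op (δ : E →ₗ[R] E ⊗[R] A) (φ : A →ₐ[R] B) : B ⊗[R] E →ₗ[B] B ⊗[R] E := LinearMap.liftBaseChange B (val δ φ)

theorem op_one_tmul (δ : E →ₗ[R] E ⊗[R] A) (φ : A →ₐ[R] B) (x : E) :
    op δ φ ((1 : B) ⊗ₜ[R] x) = val δ φ x := by
  rw [op, LinearMap.liftBaseChange_tmul, one_smul]

theorem Wmap_comm (φ : B →ₐ[R] B') (ψ : A →ₐ[R] B) (z : E ⊗[R] A) :
    VecGrp.Wmap φ (TensorProduct.comm R E B (ψ.toLinearMap.lTensor E z)) =
      TensorProduct.comm R E B' ((φ.comp ψ).toLinearMap.lTensor E z) := by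
  induction z using TensorProduct.induction_on with
  | zero => simp
  | tmul e a => rfl
  | add p q hp hq => simp only [map_add, hp, hq]

theorem val_natural (δ : E →ₗ[R] E ⊗[R] A) (φ : B →ₐ[R] B') (ψ : A →ₐ[R] B) (x : E) :
    VecGrp.Wmap φ (val δ ψ x) = val δ (φ.comp ψ) x := Wmap_comm φ ψ (δ x)

/-- Linear maps agreeing on the elements `1 ⊗ x`. -/
theorem ext_one_tmul {f f' : B ⊗[R] E →ₗ[B] B ⊗[R] E}
    (h : ∀ x : E, f ((1 : B) ⊗ₜ[R] x) = f' ((1 : B) ⊗ₜ[R] x)) (z : B ⊗[R] E) : f z = f' z := by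
  induction z using TensorProduct.induction_on with
  | zero => simp
  | tmul b x =>
    rw [show (b ⊗ₜ[R] x : B ⊗[R] E) = b • ((1 : B) ⊗ₜ[R] x) by rw [TensorProduct.smul_tmul', smul_eq_mul, _root_.mul_one],
      map_smul, map_smul, h]
  | add p q hp hq => simp only [map_add, hp, hq]

theorem op_val (δ : E →ₗ[R] E ⊗[R] A) (φ ψ : A →ₐ[R] B) (x : E) :
    op δ φ (val δ ψ x) = TensorProduct.comm R E B ((Algebra.TensorProduct.lift φ ψ fun _ _ => .all _ _).toLinearMap.lTensor E
      (TensorProduct.assoc R E A A (δ.rTensor A (δ x)))) := by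
  show op δ φ (TensorProduct.comm R E B (ψ.toLinearMap.lTensor E (δ x))) = _
  generalize δ x = z
  induction z using TensorProduct.induction_on with
  | zero => simp
  | add p q hp hq => simp only [map_add, hp, hq]
  | tmul e a =>
    rw [LinearMap.lTensor_tmul, TensorProduct.comm_tmul, op, LinearMap.liftBaseChange_tmul, LinearMap.rTensor_tmul]
    show ψ.toLinearMap a • TensorProduct.comm R E B (φ.toLinearMap.lTensor E (δ e)) = _
    generalize δ e = w
    induction w using TensorProduct.induction_on with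
    | zero => simp
    | add p q hp hq => simp only [map_add, smul_add, TensorProduct.add_tmul, hp, hq]
    | tmul e' a' => simp [TensorProduct.smul_tmul', mul_comm]

variable (m : VecGrp.GMod (GA R A) E)

/-- The coaction of a module. -/
def coactOf : E →ₗ[R] E ⊗[R] A :=
  (TensorProduct.comm R A E).toLinearMap ∘ₗ ((m.ρ A (toPt (AlgHom.id R A))).toLinearMap.restrictScalars R) ∘ₗ
    TensorProduct.mk R A E 1

theorem val_coactOf (φ : A →ₐ[R] B) (x : E) :
    val (coactOf m) φ x = m.ρ B (toPt φ) ((1 : B) ⊗ₜ[R] x) := by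
  have h := m.naturality φ (toPt (AlgHom.id R A)) ((1 : A) ⊗ₜ[R] x)
  rw [ptMap_toPt_id, VecGrp.Wmap_tmul, map_one] at h
  rw [← h]
  have h' : ∀ z : A ⊗[R] E, TensorProduct.comm R E B (φ.toLinearMap.lTensor E (TensorProduct.comm R A E z)) =
      VecGrp.Wmap φ z := fun z => by
    induction z using TensorProduct.induction_on with
    | zero => simp
    | tmul a e => rfl
    | add p q hp hq => simp only [map_add, hp, hq]
  exact h' _

theorem op_coactOf (φ : A →ₐ[R] B) (z : B ⊗[R] E) : op (coactOf m) φ z = m.ρ B (toPt φ) z :=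
  ext_one_tmul (f' := (m.ρ B (toPt φ)).toLinearMap) (fun x => (op_one_tmul _ φ x).trans (val_coactOf m φ x)) z

theorem coactOf_coassoc :
    (TensorProduct.assoc R E A A).toLinearMap ∘ₗ (coactOf m).rTensor A ∘ₗ coactOf m =
      (CoalgebraStruct.comul (R := R) (A := A)).lTensor E ∘ₗ coactOf m := by
  refine LinearMap.ext fun x => (TensorProduct.comm R E (A ⊗[R] A)).injective ?_
  let il : A →ₐ[R] A ⊗[R] A := Algebra.TensorProduct.includeLeft
  let ir : A →ₐ[R] A ⊗[R] A := Algebra.TensorProduct.includeRight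
  have hid : (Algebra.TensorProduct.lift il ir fun _ _ => .all _ _) = AlgHom.id R (A ⊗[R] A) :=
    Algebra.TensorProduct.ext' fun a b => by simp [il, ir, Algebra.TensorProduct.tmul_mul_tmul]
  have hcv : cv il ir = Bialgebra.comulAlgHom R A := by rw [cv, hid, AlgHom.id_comp]
  have h1 := op_val (coactOf m) il ir x
  rw [hid, op_coactOf, val_coactOf] at h1
  have h2 : val (coactOf m) (cv il ir) x =
      m.ρ (A ⊗[R] A) (toPt il) (m.ρ (A ⊗[R] A) (toPt ir) ((1 : A ⊗[R] A) ⊗ₜ[R] x)) := by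
    rw [val_coactOf, toPt_cv, map_mul]
    rfl
  rw [h1, hcv] at h2
  simp only [LinearMap.comp_apply, LinearEquiv.coe_coe]
  have h3 : ((AlgHom.id R (A ⊗[R] A)).toLinearMap.lTensor E
      (TensorProduct.assoc R E A A ((coactOf m).rTensor A (coactOf m x)))) =
      TensorProduct.assoc R E A A ((coactOf m).rTensor A (coactOf m x)) := by
    rw [AlgHom.toLinearMap_id, LinearMap.lTensor_id, LinearMap.id_apply]
  rw [h3] at h2
  exact h2.symm

theorem coactOf_counit :
    (CoalgebraStruct.counit (R := R) (A := A)).lTensor E ∘ₗ coactOf m = (TensorProduct.mk R E R).flip 1 := by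
  refine LinearMap.ext fun x => (TensorProduct.comm R E R).injective ?_
  have h : val (coactOf m) ((Algebra.ofId R R).comp (Bialgebra.counitAlgHom R A)) x = (1 : R) ⊗ₜ[R] x := by
    rw [val_coactOf, toPt_counit, map_one]
    rfl
  exact h

/-- The comodule of a module. -/
@[reducible] def comodOf : HopfRep.Comod R A E where
  coact := coactOf m
  coassoc := coactOf_coassoc m
  counit_comp := coactOf_counit m

section OfComod

variable [HopfRep.Comod R A E]

local notation "δ₀" => (HopfRep.Comod.coact (k := R) (A := A) (V := E))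

theorem op_op (φ ψ : A →ₐ[R] B) (z : B ⊗[R] E) : op δ₀ φ (op δ₀ ψ z) = op δ₀ (cv φ ψ) z := by
  refine ext_one_tmul (f := (op δ₀ φ).comp (op δ₀ ψ)) (fun x => ?_) z
  rw [LinearMap.comp_apply, op_one_tmul, op_one_tmul, op_val,
    show TensorProduct.assoc R E A A (HopfRep.Comod.coact.rTensor A (δ₀ x)) =
      (CoalgebraStruct.comul (R := R) (A := A)).lTensor E (δ₀ x) from
      LinearMap.congr_fun (HopfRep.Comod.coassoc (k := R) (A := A) (V := E)) x,
    ← LinearMap.lTensor_comp_apply]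
  rfl

theorem op_counit (z : B ⊗[R] E) :
    op δ₀ ((Algebra.ofId R B).comp (Bialgebra.counitAlgHom R A)) z = z := by
  refine ext_one_tmul (f' := LinearMap.id) (fun x => ?_) z
  rw [op_one_tmul, LinearMap.id_apply, ← val_natural]
  rw [show val δ₀ (Bialgebra.counitAlgHom R A) x = (1 : R) ⊗ₜ[R] x from
    congrArg (TensorProduct.comm R E R)
      (LinearMap.congr_fun (HopfRep.Comod.counit_comp (k := R) (A := A) (V := E)) x)]
  rw [VecGrp.Wmap_tmul, map_one]

theorem op_ofPt_mul (g h : VecGrp.pt R B ⟶ GA R A) (z : B ⊗[R] E) :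
    op δ₀ (ofPt (g * h)) z = op δ₀ (ofPt g) (op δ₀ (ofPt h) z) := by
  rw [op_op]
  conv_lhs => rw [← toPt_ofPt g, ← toPt_ofPt h, ← toPt_cv, ofPt_toPt]

theorem op_ofPt_one (z : B ⊗[R] E) : op δ₀ (ofPt (1 : VecGrp.pt R B ⟶ GA R A)) z = z := by
  rw [← toPt_counit, ofPt_toPt, op_counit]

variable (R A E) in
/-- The module of a comodule. -/
def modOf : VecGrp.GMod (GA R A) E where
  ρ B _ _ :=
    { toFun := fun g => LinearEquiv.ofLinearMap (op δ₀ (ofPt g)) (op δ₀ (ofPt g⁻¹))
        (LinearMap.ext fun z => by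
          rw [LinearMap.comp_apply, ← op_ofPt_mul, mul_inv_cancel, op_ofPt_one, LinearMap.id_apply])
        (LinearMap.ext fun z => by
          rw [LinearMap.comp_apply, ← op_ofPt_mul, inv_mul_cancel, op_ofPt_one, LinearMap.id_apply])
      map_one' := LinearEquiv.ext fun z => op_ofPt_one z
      map_mul' := fun g g' => LinearEquiv.ext fun z => op_ofPt_mul g g' z }
  naturality {B B'} _ _ _ _ φ g z := by
    show VecGrp.Wmap φ (op δ₀ (ofPt g) z) = op δ₀ (ofPt (VecGrp.ptMap φ ≫ g)) (VecGrp.Wmap φ z)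
    rw [ofPt_ptMap]
    induction z using TensorProduct.induction_on with
    | zero => simp
    | tmul b x =>
      rw [VecGrp.Wmap_tmul, op, op, LinearMap.liftBaseChange_tmul, LinearMap.liftBaseChange_tmul, VecGrp.Wmap_smul,
        val_natural]
    | add p q hp hq => simp only [map_add, hp, hq]

theorem modOf_one_tmul (g : VecGrp.pt R B ⟶ GA R A) (x : E) :
    (modOf R A E).ρ B g ((1 : B) ⊗ₜ[R] x) = val δ₀ (ofPt g) x := op_one_tmul _ _ x

end OfComod

end Groth.Agent.GModComod21
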